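import Cfsg.Agent.W7.N2

/-! Piece N: `2`-local subgroups have cyclic Sylow `3`-subgroups. -/

set_option autoImplicit false
set_option linter.unusedSectionVars false

namespace CF.W7

open Subgroup Cfsg CF.Loc
open scoped commutatorElement

variable {G : Type*} [Group G] [Finite G] {p : ℕ} {A B D E H L Q R U W X Y : Subgroup G} {x y g : G}

namespace Np

theorem nA (m : BG.MaxElem 3 B ⊤) (l : B ≤ R) : 𝐍(R ⊓ 𝐂(B)) ≤ 𝐍(B) := by
  have := BG.norm_Om 3 (R ⊓ 𝐂(B))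
  rwa [(m.of_le l le_top).Om_cent Nat.prime_three] at this

theorem big (b : BG.Elem 3 2 B H) (r : IsPGroup 3 R) (n : R ≤ 𝐍(B)) (x : IsPGroup 3 X) (l : R ⊓ 𝐂(B) < X) :
    Nat.card R ≤ Nat.card X := by
  have e1 := (k3 x).logn_lt l
  have e2 := b.logn_relIndex_cent n
  have e3 := BG2.logn_inf_add (p := 3) 𝐂(B) R
  rw [inf_comm] at e3
  rw [(k3 r).card_eq, (k3 x).card_eq]
  exact Nat.pow_le_pow_right (by decide) (by omega)

section
variable (h : Hy p G) (p' : p ≠ 17) (t : Ty p G) (r : NR G) (r2 : BG.pRank 3 (⊤ : Subgroup G) ≤ 2) (s : IsSyl 3 R ⊤)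
  (b : BG.Elem 3 2 B R)
include h p' t r r2 s b

theorem core (y : BG.Elem 3 1 Y B) (o : 𝐎[2](𝐂(Y)) ≠ ⊥) (H : ∀ U X : Subgroup G, IsPGroup 2 U → U ≠ ⊥ → IsPGroup 3 X →
    R ⊓ 𝐂(B) ≤ X → X ≤ 𝐍(U) → X = R ⊓ 𝐂(B)) : False := by
  have m := b.top.max_of_pRank r2
  have pA : IsPGroup 3 ↥(R ⊓ 𝐂(B)) := s.isPGroup.to_inf_left
  have lB : B ≤ R ⊓ 𝐂(B) := le_inf b.le b.abel
  have nO := le_normalizer_pCoreOf 2 𝐂(Y)
  have cY : ∀ {X}, BG.Elem 3 1 X B → R ⊓ 𝐂(B) ≤ 𝐂(X) := fun x => inf_le_right.trans (centralizer_anti x.le)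
  have a : IsSyl 3 (R ⊓ 𝐂(B)) 𝐂(Y) := ⟨cY y, pA, fun X x l l' => H _ X (isPGroup_pCoreOf 2 _) o x l (l'.trans nO)⟩
  obtain ⟨W, w⟩ := (k3 s.isPGroup.to_inf_left).exists_elem_one (center_ne_bot s.isPGroup
    (BG.ne_bot_mono b.ne_bot b.le))
  have cW : R ≤ 𝐂(W) := le_centralizer_comm.1 (w.le.trans inf_le_right)
  have w := w.of_le (m.le_of_cent w.ab le_top (le_centralizer_comm.1 (b.le.trans cW)))
  have oW := r R _ s (isPGroup_pCoreOf 2 𝐂(W)) (cW.trans (le_normalizer_pCoreOf 2 _))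
  obtain ⟨g, hg, g0⟩ := SetLike.exists_of_lt (lt_inf_normalizer s.isPGroup (inf_lt_left.2 fun l : R ≤ 𝐂(B) =>
    o (r R _ s (isPGroup_pCoreOf 2 _) ((l.trans (centralizer_anti y.le)).trans nO))))
  obtain ⟨Q, lQ, ⟨q, nQ⟩, mx⟩ := BG.exists_maximal (P := fun Q : Subgroup G => IsPGroup 2 Q ∧ R ⊓ 𝐂(B) ≤ 𝐍(Q))
    ⟨isPGroup_pCoreOf 2 𝐂(Y), (cY y).trans nO⟩
  have q0 := BG.ne_bot_mono o lQ
  have nE := fun {X} (x : BG.Elem 3 1 X B) => le_normalizer_inf nQ ((cY x).trans (le_normalizer (H := 𝐂(X))))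
  have c : Q ≤ 𝐂(Y) := b.le_of_cent (lB.trans nQ) ((k2 q).of_single' (by simp)) fun X x => by
    by_cases e : X = W
    · exact (fi h r2 b x (e ▸ oW) q.to_inf_left inf_le_right (lB.trans (nE x))).le.trans bot_le
    obtain ⟨n, rfl⟩ := b.exists_cj_of_not_cent w (nA m b.le hg.2) ((k3 s.isPGroup).elt hg.1) (cW hg.1)
      (fun e => g0 ⟨hg.1, e⟩) y (fun e => o (e ▸ oW)) x e
    have hu := pow_mem hg n
    generalize g ^ n = u at *
    have a' := a.cj u
    rw [cj_eq_self hu.2, cj_centralizer] at a'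
    by_cases e0 : Q ⊓ 𝐂(BG.cj u Y) = ⊥
    · exact e0.le.trans bot_le
    have l := h.sol_le (nd3 h x) q.to_inf_left inf_le_right a' (nE x)
    have nu : R ⊓ 𝐂(B) ≤ 𝐍(cj[u] Q) := by rw [← cj_normalizer, ← cj_eq_self hu.2]; exact cj_mono u nQ
    have e1 := mx _ ⟨ti (fun U D u u0 n => key h p' t u u0 ⟨n, pA, fun X => H U X u u0⟩ (b.of_le lB) m inf_le_right) _ Q _ e0
      (nE x) q (isPGroup_cj u q) inf_le_left (l.trans (by
        rw [show 𝐂(BG.cj u Y) = cj[u] 𝐂(Y) from (cj_centralizer u Y).symm, ← cj_pCoreOf]; exact cj_mono u lQ)) nQ nu,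
      le_normalizer_sup nQ nu⟩ le_sup_left
    have e2 := (H Q _ q q0 s.isPGroup.to_inf_left (le_inf inf_le_left nQ) inf_le_right).le ⟨hu.1,
      cj_eq_self_iff.1 (eq_of_le_of_card_le (le_sup_right.trans e1.le) (card_cj _ _).ge)⟩
    rw [show BG.cj u Y = Y from cj_eq_self (centralizer_le_normalizer _ (cY y e2))]
    exact inf_le_right
  have e := h.cq q q0
  rw [mx _ ⟨isPGroup_pCoreOf 2 _, nQ.trans (le_normalizer_pCoreOf 2 _)⟩ (le_pCoreOf q le_normalizer le_rfl)] at e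
  exact y.ne_bot (by rw [← BG.inf_eq_bot_of_coprime (cop23 q (q3 y.pi)), inf_of_le_right ((le_centralizer_comm.1 c).trans e)])

theorem nrm (n : R ≤ 𝐍(B)) (u : IsPGroup 2 U) (u0 : U ≠ ⊥) (l : B ≤ 𝐍(U)) : False :=
  let ⟨_, y, o⟩ := exY h r2 b u u0 l
  core h p' t r r2 s b y o fun U X u u0 x l l' => (l.eq_or_lt.resolve_right fun k =>
    u0 (r X U (s.of_card_le x le_top (big b s.isPGroup n x k)) u l')).symm

end

end Np

open Np in
theorem beta (h : Hy p G) (p' : p ≠ 17) (t : Ty p G) (r : NR G) (r2 : PRankLE 3 2 G) : Tn G := fun U A u u0 a l => by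
  have r2 := (BG.pRankLE_top_iff Nat.prime_three).1 r2
  by_contra c
  obtain ⟨B, b, -⟩ := BG2.exists_normal_elem_two Nat.prime_three (by decide) (k3 a) c
  obtain ⟨Y, y, o⟩ := exY h r2 b u u0 (b.le.trans l)
  have m := b.top.max_of_pRank r2
  obtain ⟨A, a, lA⟩ := exists_isSyl_ge (q3 b.pi) b.abel
  have e : ∀ R, IsSyl 3 R ⊤ → A ≤ R → R ⊓ 𝐂(B) = A := fun R s l =>
    a.eq_of_le s.isPGroup.to_inf_left (le_inf l a.le) inf_le_right
  obtain ⟨R, s, lR⟩ := exists_isSyl_ge a.isPGroup le_top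
  refine core h p' t r r2 s (b.of_le (lA.trans lR)) y o fun U X u u0 x l l' => (l.eq_or_lt.resolve_right fun k => ?_).symm
  rw [e R s lR] at k
  obtain ⟨S, s, lS⟩ := exists_isSyl_ge x le_top
  have b := b.of_le (lA.trans (k.le.trans lS))
  obtain ⟨E, b', nE⟩ := BG2.exists_normal_elem_two Nat.prime_three (by decide) (k3 s.isPGroup) b.not_cyc'
  have k1 := lt_inf_normalizer x k
  have e1 := e S s (k.le.trans lS)
  have l1 : X ⊓ 𝐍(A) ≤ S ⊓ 𝐍(B) := inf_le_inf lS (e1 ▸ nA m b.le)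
  have e2 := eq_of_le_of_card_le l1 (big b s.isPGroup.to_inf_left inf_le_right x.to_inf_left (by
    rwa [inf_right_comm, e1, inf_of_le_left (a.le.trans (centralizer_le_normalizer _))]))
  refine nrm h p' t r r2 s b' nE.norm u u0 ((le_inf b'.le (BG.norm_of_comm_le' ((commutator_mono le_rfl b.le).trans
    ?_))).trans (e2.ge.trans (inf_le_left.trans l')))
  by_cases k0 : ⁅E, S⁆ = ⊥
  · exact k0.le.trans bot_le
  have z := b'.one_of_lt ((k3 s.isPGroup).comm_lt b'.pi nE.norm b'.ne_bot) k0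
  exact m.le_of_cent z.ab le_top (((k3 s.isPGroup).cent_of_prime Nat.prime_three z.card_one
    (BG.norm_comm_right _ _)).trans (centralizer_anti b.le))

open Np in
theorem f4 (h : Hy p G) (r : NR G) (n : Tn G) : F4 G := fun y a b o a2 b2 c ca cb => by
  by_contra! k
  obtain ⟨a1, b1, ab⟩ := k
  have z := BG.elem_zpowers Nat.prime_three (mem_top y) o
  have lY : zpowers y ≤ 𝐂(zpowers y) := z.abel
  have o2 : 𝐎[2](𝐂(zpowers y)) = ⊥ := by_contra fun o2 => by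
    have nO := le_normalizer_pCoreOf 2 𝐂(zpowers y)
    obtain ⟨A, s, l⟩ := exists_isSyl_ge (p3 o) lY
    refine o2 (r A _ (isSyl_of_normalizer ⟨le_inf le_top le_normalizer, s.isPGroup, fun X x l1 l2 => s.eq_of_le x l1
      (le_centralizer_comm.1 ((k3 x).cent_of_prime Nat.prime_three (c3 o) ?_))⟩) (isPGroup_pCoreOf 2 _) (s.le.trans nO))
    exact BG.Cyc.le_norm (n _ A (isPGroup_pCoreOf 2 _) o2 s.isPGroup (s.le.trans nO)) l (l2.trans inf_le_right)
  have ea := BG.elem_zpowers' Nat.prime_two (mem_top a) ((pow_two a).trans a2) a1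
  have eb := BG.elem_zpowers' Nat.prime_two (mem_top b) ((pow_two b).trans b2) b1
  have cz : ∀ {a b : G}, a * b = b * a → zpowers b ≤ 𝐂(zpowers a) := fun c => zpowers_le.2 (by
    rw [centralizer_zpowers]; exact mem_centralizer_singleton_iff.2 c.symm)
  have e := ea.sup_one eb (cz c) fun l => by
    obtain ⟨j, rfl⟩ := mem_powers_iff_mem_zpowers.2 (l (mem_zpowers b))
    rcases j.even_or_odd' with ⟨j, rfl | rfl⟩ <;> simp [pow_succ, pow_mul, a2] at b1 ab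
  have l := sup_le (cz ca) (cz cb)
  generalize zpowers a ⊔ zpowers b = E at e l
  have pE := (BG.piGrp_iff_isPGroup Nat.prime_two).1 e.pi
  have f := isPGroup_pCoreOf 3 𝐂(zpowers y)
  have nF := l.trans (le_normalizer_pCoreOf 3 _)
  refine e.ne_bot (ex3 h (nd3 h z) o2 pE l (le_centralizer_comm.1 (e.le_of_cent nF ((k3 f).of_single' (by simp))
    fun B x => le_centralizer_comm.1 (cent_of_cyc (n B _ (pE.to_le x.le) x.ne_bot f.to_inf_left
      (inf_le_right.trans (centralizer_le_normalizer _))) f.to_inf_left pE (le_normalizer_inf nF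
      (le_normalizer_centralizer (e.abel.le_norm x.le))) o ⟨le_pCoreOf (p3 o) lY (centralizer_le_normalizer _)
      (mem_zpowers y), le_centralizer_comm.1 (x.le.trans l) (mem_zpowers y)⟩ l))))

end CF.W7
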