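import Cfsg.Agent.W7.D
import Cfsg.Agent.W7.E1
import Cfsg.Agent.S1895
import Cfsg.Agent.BG.Sec10

/-! Piece N: actions on `3`-groups of rank two. -/

set_option autoImplicit false
set_option linter.unusedSectionVars false

namespace CF.W7.Np

section
open Subgroup CF.BG
open scoped commutatorElement

variable {G : Type*} [Group G] [Finite G] {A B D F X S : Subgroup G}

theorem fr3 (f : PiGrp {3} F) (r : pRank 3 F ≤ 2) (d : PiGrp {2} D) (x : Elem 3 1 X ⊤) (e : D ⊓ 𝐂 X = ⊥)
    (n : X ≤ 𝐍 D) (nD : D ≤ 𝐍 F) (nX : X ≤ 𝐍 F) : D ≤ 𝐂 F := by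
  have nF : F ⊴ F ⊔ (D ⊔ X) := normalIn_sup_left (sup_le nD nX)
  have d' : PiGrp {3}ᶜ D := d.of_single' (by simp)
  refine cent_of_chief nF (f.coprime d').symm fun U V c u => ?_
  have l : D ⊔ X ≤ 𝐍 V := le_sup_right.trans c.normV
  have lD := le_sup_left.trans l
  have lX := le_sup_right.trans l
  have b := Cfsg.Agent.S1895.bd Nat.prime_three (by decide) nF f r V U c u
  have k := (f.le u).qt V
  obtain ⟨q, hq, a⟩ := c.exists_abelem (Sol.sup' f.sol (Sol.sup' d.sol x.pi.sol n) (sup_le nD nX))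
  have u0 : qt V U ≠ ⊥ := fun e => c.lt.not_ge ((qt_eq_bot c.normalVU.norm).1 e)
  obtain rfl : q = 3 := (Nat.prime_dvd_prime_iff_eq hq Nat.prime_three).1 (by
    obtain ⟨Y, y⟩ := a.pi.exists_elem_one u0
    rw [y.mem_of_pi k])
  have w := BG2.wielandt_abelem ((x.reg e).qt n V) (qt_norm V n) (d.sol.qt V) a hq
    (by rw [← qt_sup lD lX]; exact qt_norm V (le_sup_right.trans c.normal.norm)) (d'.qt V)
  by_cases x0 : X ≤ V
  · have : D = ⊥ := e ▸ (inf_eq_left.2 (comm_eq_bot.1 (le_bot_iff.1 ((le_inf (comm_le_left n) ((commutator_mono le_rfl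
      (x0.trans (c.lt.le.trans u))).trans (comm_le_right nD))).trans (BG.inf_eq_bot_of_coprime (f.coprime d').symm).le)))).symm
    simp [this]
  rw [card_qt_of_inf_bot lX (by rw [inf_comm]; exact inf_eq_bot_of_prime_of_not_le x.card_prime x0), x.card_one] at w
  have w' := congrArg (logn 3) w
  have p1 := fun H : Subgroup (Quo V) => pow_ne_zero 3 (card_ne_zero' H)
  rw [logn_mul (p1 _) (card_ne_zero' _), logn_mul (p1 _) (card_ne_zero' _)] at w'
  simp only [logn, Nat.factorization_pow, Finsupp.smul_apply, smul_eq_mul] at w'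
  have l1 := logn_card_le (p := 3) (inf_le_inf_left (qt V U) (cent_anti (le_sup_right : qt V X ≤ qt V D ⊔ qt V X)))
  have l2 := logn_card_le (p := 3) (inf_le_left : qt V U ⊓ 𝐂 (qt V D) ≤ _)
  rw [← card_qt c.normalVU.norm] at b
  exact (qt_cent_iff c.normalVU.norm lD).1 (inf_eq_left.1 (k.eq_of_logn_le inf_le_left (by unfold logn at *; omega)))

theorem md9 (M : Ep.Md G) (d : PiGrp {2} D) (a : Syl 3 A ⊤) (n : A ≤ 𝐍 D) : D = ⊥ := by
  obtain ⟨S, s, l⟩ := exists_syl_le le_top d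
  have r : Reg D A := reg_of_forall fun x hx x1 y hy c => by_contra fun y1 =>
    x1 (M.nomix (M.sq s (l hy)) y1 ((a.pi.elt hx).of_single' (by simp)) c.symm)
  have e := r.card_dvd n
  have e1 := card_le_of_le l
  have e2 : 3 ^ 2 ∣ ♯A := (pow_dvd_iff_le_logn Nat.prime_three (card_ne_zero' _)).2 (by
    rw [a.logn_eq rfl, ← pow_dvd_iff_le_logn Nat.prime_three (card_ne_zero' _), card_top, M.card]; decide)
  rw [(M.c8 s).1] at e1
  have := Nat.eq_zero_of_dvd_of_lt (e2.trans e) (by omega)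
  have := card_ne_zero' D
  exact card_eq_one'.1 (by omega)

end

end CF.W7.Np
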