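import Cfsg.Agent.W7.N1

/-! Piece N: centralizers of elements of order `3`. -/

set_option autoImplicit false
set_option linter.unusedSectionVars false

namespace CF.W7

open Subgroup Cfsg CF.Loc
open scoped commutatorElement

variable {G : Type*} [Group G] [Finite G] {p : ℕ} {A B D E H L Q R U W X Y : Subgroup G} {x y g : G}

namespace Np

theorem k3 (a : IsPGroup 3 A) : BG.PiGrp {3} A := BG.piGrp_of_isPGroup Nat.prime_three a

theorem k2 (a : IsPGroup 2 A) : BG.PiGrp {2} A := BG.piGrp_of_isPGroup Nat.prime_two a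

theorem q3 (a : BG.PiGrp {3} A) : IsPGroup 3 A := (BG.piGrp_iff_isPGroup Nat.prime_three).1 a

theorem nd3 (h : Hy p G) (y : BG.Elem 3 1 Y H) : ¬ p ∣ Nat.card 𝐂(Y) := by
  obtain ⟨g, g1, m, rfl⟩ := y.exists_gen
  have := h.p7
  refine h.nd_of_cent g1 (fun d => ?_) (centralizer_zpowers g).le
  have := Nat.le_of_dvd (by decide) (y.ab.orderOf m g1 ▸ d)
  omega

theorem ex3 (h : Hy p G) (k : ¬ p ∣ Nat.card H) (o : 𝐎[2](H) = ⊥) (d : IsPGroup 2 D) (l : D ≤ H)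
    (c : D ≤ 𝐂(𝐎[3](H))) : D = ⊥ := by
  obtain ⟨A, a⟩ := exists_isSyl 3 H
  by_contra d0
  obtain ⟨F, f, e, -⟩ := h.np3 k d l (by rwa [o, le_bot_iff]) a
  refine e ((commutator_eq_bot_iff_le_centralizer'.2 (c.trans (centralizer_anti (inf_le_right.trans
    (le_pCoreOf (isPGroup_iff_forall.2 fun g m => ?_) f.le f.norm))))).le.trans bot_le)
  simpa only [o, mem_bot] using f.pw g m

theorem fi (h : Hy p G) (r : BG.pRank 3 (⊤ : Subgroup G) ≤ 2) (b : BG.Elem 3 2 B H) (y : BG.Elem 3 1 Y B)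
    (o : 𝐎[2](𝐂(Y)) = ⊥) (d : IsPGroup 2 D) (c : D ≤ 𝐂(Y)) (n : B ≤ 𝐍(D)) : D = ⊥ := by
  have nF := le_normalizer_pCoreOf 3 𝐂(Y)
  have f := isPGroup_pCoreOf 3 𝐂(Y)
  have lB : B ≤ 𝐂(Y) := b.abel.trans (centralizer_anti y.le)
  have k := isPGroup_sup f (q3 b.pi) (lB.trans nF)
  have e : D ⊓ 𝐂(B) = ⊥ := ex3 h (nd3 h y) o d.to_inf_left (inf_le_left.trans c) (((k3 k).cent_of_Om_cent (odd3 k)
    le_sup_right b.ab (le_normalizer_sup (inf_le_left.trans (c.trans nF)) (inf_le_right.trans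
      (centralizer_le_normalizer _))) (cop23 d.to_inf_left k) (by
      rw [((b.top.max_of_pRank r).of_le le_sup_right le_top).Om_cent Nat.prime_three]; exact inf_le_right)).trans
      (centralizer_anti le_sup_left))
  obtain ⟨X, x, ne⟩ := b.exists_ne Y
  refine ex3 h (nd3 h y) o d c (fr3 (k3 f) ((BG.pRank_mono 3 le_top).trans r) (k2 d) x.top (eq_bot_iff.2 (le_trans ?_ e.le))
    (x.le.trans n) (c.trans nF) (x.le.trans (lB.trans nF)))
  rw [← (b.dprod_two x y ne).sup, BG.cent_sup]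
  exact le_inf inf_le_left (le_inf inf_le_right (inf_le_left.trans c))

theorem exY (h : Hy p G) (r : BG.pRank 3 (⊤ : Subgroup G) ≤ 2) (b : BG.Elem 3 2 B H) (u : IsPGroup 2 U) (u0 : U ≠ ⊥)
    (n : B ≤ 𝐍(U)) : ∃ Y, BG.Elem 3 1 Y B ∧ 𝐎[2](𝐂(Y)) ≠ ⊥ :=
  let ⟨Y, y, e⟩ := b.exists_cent_ne_bot n ((k2 u).of_single' (by simp)) u0
  ⟨Y, y, fun o => e (fi h r b y o u.to_inf_left inf_le_right (le_normalizer_inf n
    (le_normalizer_centralizer (b.abel.le_norm y.le))))⟩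

theorem ti (k : ∀ U D : Subgroup G, IsPGroup 2 U → U ≠ ⊥ → A ≤ 𝐍(U) → IsPGroup 2 D → D ≤ 𝐍(U) → A ≤ 𝐍(D) → D ≤ 𝐎[2](𝐍(U)))
    (D : Subgroup G) : ∀ Q R : Subgroup G, D ≠ ⊥ → A ≤ 𝐍(D) → IsPGroup 2 Q → IsPGroup 2 R → D ≤ Q → D ≤ R → A ≤ 𝐍(Q) →
      A ≤ 𝐍(R) → IsPGroup 2 ↥(Q ⊔ R) := by
  induction D using WellFoundedGT.induction with
  | ind D ih =>
  intro Q R d0 n q r lq lr nq nr
  rcases lq.eq_or_lt with rfl | lq
  · rwa [sup_of_le_right lr]
  rcases lr.eq_or_lt with rfl | lr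
  · rwa [sup_of_le_left lq.le]
  have nn := fun {Q : Subgroup G} (nq : A ≤ 𝐍(Q)) => le_normalizer_inf nq (n.trans le_normalizer)
  have l := fun {Q : Subgroup G} (q : IsPGroup 2 Q) (lq : D < Q) (nq : A ≤ 𝐍(Q)) =>
    k D _ (q.to_le lq.le) d0 n q.to_inf_left inf_le_right (nn nq)
  have nO := n.trans (le_normalizer_pCoreOf 2 𝐍(D))
  have b := fun {Q : Subgroup G} (q : IsPGroup 2 Q) (lq : D < Q) => (bot_le.trans_lt (lt_inf_normalizer q lq)).ne'
  exact (ih _ (lt_inf_normalizer r lr) _ R (b r lr) (nn nr) (ih _ (lt_inf_normalizer q lq) Q _ (b q lq) (nn nq) q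
    (isPGroup_pCoreOf 2 _) inf_le_left (l q lq nq) nq nO) r ((l r lr nr).trans le_sup_right) inf_le_left
    (le_normalizer_sup nq nO) nr).to_le (sup_le_sup_right le_sup_left _)

theorem idx7 (h : Hy 7 G) (u : IsPGroup 2 U) {r : ℕ} (st : St 𝐍(U) L (7 * r)) : L.relIndex 𝐍(U) * (r % 7) ∣ 6 := by
  have : Fact (Nat.Prime 7) := ⟨h.pr⟩
  have c := card_mul_relIndex st.lo
  rw [st.idx] at c
  obtain ⟨x, m, ox⟩ := exists_orderOf_eq_of_dvd_card (p := 7) (H := L) (c ▸ Dvd.dvd.mul_left (dvd_mul_right _ _) _)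
  exact (h.idx2 ox m st.le st.nr st.lo (le_normalizer_pCoreOf 2 _ (st.le m))
    (h.nd (.inl rfl) (isPGroup_pCoreOf 2 _)) st.idx).2

theorem key (h : Hy p G) (p' : p ≠ 17) (t : Ty p G) (u : IsPGroup 2 U) (u0 : U ≠ ⊥) (a : IsSyl 3 A 𝐍(U))
    (b : BG.Elem 3 2 B A) (m : BG.MaxElem 3 B ⊤) (c : A ≤ 𝐂(B)) (d : IsPGroup 2 D) (l : D ≤ 𝐍(U)) (n : A ≤ 𝐍(D)) :
    D ≤ 𝐎[2](𝐍(U)) := by
  have := Fact.mk h.pr
  have pO := isPGroup_pCoreOf 2 𝐍(U)
  have y3 : ¬ Y3 𝐍(U) := fun ⟨e, k⟩ => by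
    have k' : ∀ g ∈ A, ∀ j, g ^ 3 ^ j = 1 → g ^ 3 = 1 := fun g hg j => by
      induction j with
      | zero => intro e; rw [pow_zero, pow_one] at e; rw [e, one_pow]
      | succ j ih =>
        intro e
        rcases j with _ | j
        · exact e
        exact ih (by rw [pow_succ, pow_mul]; exact k _ (pow_mem (a.le hg) _) (by rw [← pow_mul, ← e]; congr 1; ring))
    have := card_le_of_le (H := A) fun g hg => m.mem Nat.prime_three trivial (c hg)
      (let ⟨j, e⟩ := isPGroup_iff_forall.1 a.isPGroup g hg; k' g hg j e)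
    have := (Nat.pow_le_pow_right (by decide) ((Nat.prime_three.pow_dvd_iff_le_factorization (k := 3)
      Nat.card_pos.ne').1 e)).trans a.card_eq.ge
    rw [b.card] at *
    omega
  by_cases s : Group.IsSolvable 𝐍(U)
  · by_cases k : p ∣ Nat.card 𝐍(U)
    swap
    · exact h.sol_le k d l a n
    obtain ⟨x, mx, ox⟩ := exists_orderOf_eq_of_dvd_card k
    obtain ⟨S, e⟩ := exists_isSyl 3 (𝐍(U) ⊓ 𝐍(zpowers x))
    have e' := e.sup_of_normal (P := ⊥) (isSyl_of_not_dvd_relIndex IsPGroup.of_bot bot_le (by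
      rw [relIndex_bot_left]; exact (Nat.prime_three.coprime_iff_not_dvd).1 (by
        obtain ⟨j, e2⟩ := pO.exists_card_eq; exact e2 ▸ Nat.Coprime.pow_right j (by decide)))) bot_le
      (.inl (inf_le_left.trans (le_normalizer_pCoreOf 2 _)))
    rw [sup_comm, h.fs ox s (h.lc U u u0) mx] at e'
    obtain ⟨g, -, rfl⟩ := a.conj e'
    exact ((b.cj g).not_cyc' ((h.reg ox (h.nd (.inr rfl) e.isPGroup)).symm.cyc_of_pi (e.le.trans inf_le_right) (h.x1 ox)
      (k3 e.isPGroup) (odd3 e.isPGroup))).elim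
  rcases t U u u0 s with ⟨rfl, ⟨L, st⟩ | ⟨L, st, F, _, _, hF, f, sj, k⟩ | y⟩ | ⟨-, y⟩ | ⟨e, -⟩
  · have e : _ ∣ 2 := Nat.dvd_of_mul_dvd_mul_right three_pos (idx7 h u (r := 24) st)
    have e1 := card_dvd_of_le (b.le.trans a.le)
    obtain ⟨j, e2⟩ := pO.exists_card_eq
    rw [b.card, ← card_mul_relIndex st.le, ← card_mul_relIndex st.lo, st.idx, e2, mul_assoc] at e1
    have := (Nat.Coprime.dvd_of_dvd_mul_left (Nat.Coprime.pow _ _ (by decide)) e1).trans (mul_dvd_mul_left _ e)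
    omega
  · have e : _ ∣ 3 := Nat.dvd_of_mul_dvd_mul_right two_pos (idx7 h u (r := 72) st)
    have lD : D ≤ L := by
      obtain ⟨j, e2⟩ := relIndex_eq_pow_of_isPGroup d L
      have := (BG.relIndex_dvd_of_norm l st.nr).trans e
      rw [e2] at this
      exact relIndex_eq_one.1 (e2.trans ((Nat.Coprime.pow_left j (by decide)).eq_one_of_dvd this))
    have s0 := (isSyl_top (a.inf_of_le_normalizer st.le st.nr).toSylow).map f
    rw [IsSyl.coe_toSylow, map_top_of_surjective f sj] at s0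
    have := md9 (Ep.md_psl hF) (k2 ((isPGroup_subgroupOf d).map f))
      (BG.syl_mk Nat.prime_three le_top (k3 s0.isPGroup) s0.not_dvd_relIndex)
      (BG.map_norm (BG.subgroupOf_norm L (inf_le_left.trans n)) f)
    rw [Subgroup.map_eq_bot_iff, k] at this
    exact fun g hg => this (show (⟨g, lD hg⟩ : L) ∈ _ from hg)
  · exact (y3 y).elim
  · exact (y3 y).elim
  · exact (p' e).elim

end Np

end CF.W7
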